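import Mathlib
import Cfsg.Agent.Lib.helper7.CeB
import Cfsg.Agent.Lib.helper7.CEC.Defs
import Cfsg.Agent.Lib.Lead.STD.Defs

/-!
# Project CED (designer helper7; part (2) of the lead's project SPN, S2096 + S2097): central extensions of a group with a
Steinberg system of type `D` split — definitions

`σ : Γ →* G` is a central extension (`Cfsg.Agent.Lib.helper7.Ce.IsCE`) of a group `G` carrying a Steinberg system of
type `D` (`S : SysD K ι G`, the lead's `Cfsg.Agent.Lib.Lead.STD`).  `CL σ x y` (helper7 `CeA`): any two lifts of `x` and `y` commute.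
`lf h g` (helper7 `CeB`): a chosen lift of `g`.  `cm a b = a b a⁻¹ b⁻¹`, `cj g a = g a g⁻¹`.
Signed indices `a : ι ⊕ ι`, `ng`, `ab` as in `STC.Defs`; `ab a ≠ ab b` says that `a ≠ b` and `a ≠ ng b`.  The index conditions `I3`, `I4` are those of
`Cfsg.Agent.Lib.helper7.CEC` (project CEC, the type `C` model of this project).
-/

set_option autoImplicit false

namespace Cfsg.Agent.Lib.helper7.CED

open Cfsg.Agent.Lib.helper15.St2 Cfsg.Agent.Lib.helper7.Ce Cfsg.Agent.Lib.helper3.STC Cfsg.Agent.Lib.Lead.STD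
  Cfsg.Agent.Lib.helper7.CEC

/-- at least five indices -/
def I5 (ι : Type*) : Prop :=
  ∀ a b c d : ι ⊕ ι, ∃ e : ι ⊕ ι, ab e ≠ ab a ∧ ab e ≠ ab b ∧ ab e ≠ ab c ∧ ab e ≠ ab d

variable {K : Type*} [Field K] {ι : Type*} {Γ G : Type*} [Group Γ] [Group G]

/-- all pairs of root elements that commute by `SysD.comm` have commuting lifts -/
def HC (S : SysD K ι G) (σ : Γ →* G) : Prop :=
  ∀ a b c d : ι ⊕ ι, a ≠ b → a ≠ ng b → c ≠ d → c ≠ ng d → b ≠ c → a ≠ d → b ≠ ng d → a ≠ ng c → ∀ t u : K,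
    CL σ (S.x a b t) (S.x c d u)

/-- the four types of pairs of roots that commute by `SysD.comm` (or are equal): the same root, two roots at `60°` (in a row, in a column),
two orthogonal roots on four different indices.  (The fifth type, `e_a - e_b` and `e_a + e_b`, is the axiom `SysD.sso`: it is treated AFTER the
canonical lifts exist, row S2.) -/
structure HT (S : SysD K ι G) (σ : Γ →* G) : Prop where
  t1 : ∀ a b : ι ⊕ ι, ab a ≠ ab b → ∀ t u : K, CL σ (S.x a b t) (S.x a b u)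
  t3r : ∀ a b d : ι ⊕ ι, ab a ≠ ab b → ab a ≠ ab d → ab b ≠ ab d → ∀ t u : K, CL σ (S.x a b t) (S.x a d u)
  t3c : ∀ a b c : ι ⊕ ι, ab a ≠ ab b → ab c ≠ ab b → ab a ≠ ab c → ∀ t u : K, CL σ (S.x a b t) (S.x c b u)
  t4 : ∀ a b c d : ι ⊕ ι, ab a ≠ ab b → ab c ≠ ab d → ab a ≠ ab c → ab a ≠ ab d → ab b ≠ ab c → ab b ≠ ab d →
    ∀ t u : K, CL σ (S.x a b t) (S.x c d u)

/-- the commutator of lifts of `x a c t` and `x c b u`: a lift of `x a b (t * u)` -/
noncomputable def Ys (S : SysD K ι G) {σ : Γ →* G} (h : IsCE σ) (a c b : ι ⊕ ι) (t u : K) : Γ :=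
  cm (lf h (S.x a c t)) (lf h (S.x c b u))

/-- the relation `B` -/
def PB (S : SysD K ι G) {σ : Γ →* G} (h : IsCE σ) : Prop :=
  ∀ a c b : ι ⊕ ι, ab a ≠ ab c → ab c ≠ ab b → ab a ≠ ab b → ∀ t u : K, Ys S h a c b t u = Ys S h a c b (t * u) 1

/-- independence of the middle index -/
def PI (S : SysD K ι G) {σ : Γ →* G} (h : IsCE σ) : Prop :=
  ∀ a c c' b : ι ⊕ ι, ab a ≠ ab c → ab c ≠ ab b → ab a ≠ ab c' → ab c' ≠ ab b → ab a ≠ ab b → ∀ t : K,
    Ys S h a c b t 1 = Ys S h a c' b t 1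

open Classical in
/-- the lift of `x a b t` through a chosen third index -/
noncomputable def Xs (S : SysD K ι G) {σ : Γ →* G} (h : IsCE σ) (h3 : I3 ι) (a b : ι ⊕ ι) (t : K) : Γ :=
  Ys S h a (Classical.choose (h3 a b)) b t 1

/-- canonical lifts of the root elements: additive, compatible with the two names of a root, equivariant under the
monomial elements (`IsMon`) whose permutation commutes with `ng`, and satisfying the relation `comm3` -/
structure RootLift (S : SysD K ι G) {σ : Γ →* G} (h : IsCE σ) where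
  X : ι ⊕ ι → ι ⊕ ι → K → Γ
  map : ∀ a b, ab a ≠ ab b → ∀ t, σ (X a b t) = S.x a b t
  add : ∀ a b, ab a ≠ ab b → ∀ t u, X a b (t + u) = X a b t * X a b u
  sym : ∀ a b, ab a ≠ ab b → ∀ t, X a b t = X (ng b) (ng a) (-t)
  eqv : ∀ (g : G) (π : Equiv.Perm (ι ⊕ ι)) (d : ι ⊕ ι → K), S.IsMon g π d → (∀ k, π (ng k) = ng (π k)) →
    ∀ e : Γ, σ e = g → ∀ a b, ab a ≠ ab b → ∀ t, cj e (X a b t) = X (π a) (π b) (d a * (d b)⁻¹ * t)
  c3 : ∀ a c b, ab a ≠ ab c → ab c ≠ ab b → ab a ≠ ab b → ∀ t u, cm (X a c t) (X c b u) = X a b (t * u)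

variable {S : SysD K ι G} {σ : Γ →* G} {h : IsCE σ}

open Classical in
/-- all the canonical lifts, with the conventions `x a a t = 1`, `x a (ng a) t = 1` of `SysD` -/
noncomputable def xF (L : RootLift S h) (a b : ι ⊕ ι) (t : K) : Γ :=
  if a = b then 1 else if b = ng a then 1 else L.X a b t

/-- the spin element of a system: `h_ab(-1) h_{a,-b}(-1)` (it is `-1` in the spin group and `1` in the orthogonal group) -/
def zz (S : SysD K ι G) (a b : ι ⊕ ι) : G := S.h a b (-1) * S.h a (ng b) (-1)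

end Cfsg.Agent.Lib.helper7.CED
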